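import Groth.Agent.Lib.Helper7.Versal.Main
import Groth.Agent.Lib.Helper7.FibreIntegral

/-!
# Lifting morphisms from local Artinian schemes through étale morphisms (helper7)
-/

set_option autoImplicit false

universe u

open CategoryTheory AlgebraicGeometry IsLocalRing

namespace Groth.Agent.Lib.Helper7.Versal

theorem isNilpotent_ker_of_artinian {C C' : Type u} [CommRing C] [CommRing C'] [IsLocalRing C]
    [IsLocalRing C'] [IsArtinianRing C'] (π : C' →+* C) : IsNilpotent (RingHom.ker π) := by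
  have h1 : IsNilpotent (Ideal.jacobson (⊥ : Ideal C')) := IsArtinianRing.isNilpotent_jacobson_bot
  rw [IsLocalRing.jacobson_eq_maximalIdeal ⊥ bot_ne_top] at h1
  obtain ⟨n, hn⟩ := h1
  have hle : RingHom.ker π ≤ maximalIdeal C' :=
    IsLocalRing.le_maximalIdeal (RingHom.ker_ne_top π)
  refine ⟨n, ?_⟩
  have := Ideal.pow_right_mono hle n
  rw [hn] at this
  exact le_bot_iff.mp this

/-- Infinitesimal lifting through an étale morphism, for a surjection of local rings with nilpotent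
kernel. -/
theorem exists_lift_etale_of_local {U T : Scheme.{u}} (e : U ⟶ T) [Etale e]
    {C C' : Type u} [CommRing C] [CommRing C'] [IsLocalRing C] [IsLocalRing C'] (π : C' →+* C)
    (hπ : Function.Surjective π) (hnil : IsNilpotent (RingHom.ker π))
    (a : Spec (CommRingCat.of C) ⟶ U) (c₁ : Spec (CommRingCat.of C') ⟶ T)
    (h : Spec.map (CommRingCat.ofHom π) ≫ c₁ = a ≫ e) :
    ∃ c : Spec (CommRingCat.of C') ⟶ U, Spec.map (CommRingCat.ofHom π) ≫ c = a ∧ c ≫ e = c₁ := by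
  haveI hπloc : IsLocalHom (CommRingCat.ofHom π).hom := IsLocalHom.of_surjective π hπ
  set u := a (closedPoint C) with hu
  obtain ⟨_, ⟨V, hV, rfl⟩, huV, -⟩ := T.isBasis_affineOpens.exists_subset_of_mem_open
    (Set.mem_univ (e u)) isOpen_univ
  obtain ⟨_, ⟨W, hW, rfl⟩, huW, hWV⟩ := U.isBasis_affineOpens.exists_subset_of_mem_open
    (show u ∈ e ⁻¹ᵁ V from huV) (e ⁻¹ᵁ V).2
  have hWV' : W ≤ e ⁻¹ᵁ V := hWV
  -- `a` factors through `W`
  have hra : Set.range a ⊆ (W : Set U) := by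
    rintro _ ⟨p, rfl⟩
    have := Scheme.preimage_eq_top_of_closedPoint_mem a huW
    have hp : p ∈ a ⁻¹ᵁ W := by rw [this]; trivial
    exact hp
  obtain ⟨α, hα⟩ := Groth.Agent.Lib.Helper7.exists_SpecMap_comp_fromSpec hW a hra
  -- `c₁` factors through `V`
  have hc₁pt : c₁ (closedPoint C') ∈ V := by
    have e1 : Spec.map (CommRingCat.ofHom π) (closedPoint C) = closedPoint C' := Spec_closedPoint
    rw [← e1, ← Scheme.Hom.comp_apply, h, Scheme.Hom.comp_apply]
    exact huV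
  have hrc : Set.range c₁ ⊆ (V : Set T) := by
    rintro _ ⟨p, rfl⟩
    have := Scheme.preimage_eq_top_of_closedPoint_mem c₁ hc₁pt
    have hp : p ∈ c₁ ⁻¹ᵁ V := by rw [this]; trivial
    exact hp
  obtain ⟨γ, hγ⟩ := Groth.Agent.Lib.Helper7.exists_SpecMap_comp_fromSpec hV c₁ hrc
  let φ : Γ(T, V) ⟶ Γ(U, W) := e.appLE V W hWV'
  have hφ : Spec.map φ ≫ hV.fromSpec = hW.fromSpec ≫ e :=
    IsAffineOpen.SpecMap_appLE_fromSpec e hV hW hWV'
  have hφet : φ.hom.Etale := e.etale_appLE hV hW hWV'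
  -- the ring-level square
  have hsq : γ ≫ CommRingCat.ofHom π = φ ≫ α := by
    apply Spec.map_injective
    rw [← cancel_mono hV.fromSpec, Spec.map_comp, Spec.map_comp, Category.assoc, Category.assoc,
      ← hγ, h, hα, Category.assoc, hφ]
  -- formal smoothness
  letI : Algebra Γ(T, V) Γ(U, W) := φ.hom.toAlgebra
  letI : Algebra Γ(T, V) C' := γ.hom.toAlgebra
  letI : Algebra Γ(T, V) C := (γ ≫ CommRingCat.ofHom π).hom.toAlgebra
  haveI : Algebra.Etale Γ(T, V) Γ(U, W) := RingHom.etale_algebraMap.mp hφet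
  let πa : C' →ₐ[Γ(T, V)] C := ⟨π, fun r => rfl⟩
  let αa : Γ(U, W) →ₐ[Γ(T, V)] C := ⟨α.hom, fun r => by
    have := congrArg (fun m => m.hom r) hsq
    exact this.symm⟩
  let β : Γ(U, W) →ₐ[Γ(T, V)] C' :=
    Algebra.FormallySmooth.liftOfSurjective αa πa hπ hnil
  have hβπ : CommRingCat.ofHom β.toRingHom ≫ CommRingCat.ofHom π = α := by
    ext x
    exact Algebra.FormallySmooth.liftOfSurjective_apply αa πa hπ hnil x
  have hφβ : φ ≫ CommRingCat.ofHom β.toRingHom = γ := by
    ext r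
    exact β.commutes r
  refine ⟨Spec.map (CommRingCat.ofHom β.toRingHom) ≫ hW.fromSpec, ?_, ?_⟩
  · rw [← Category.assoc, ← Spec.map_comp, hβπ, hα]
  · rw [Category.assoc, ← hφ, ← Category.assoc, ← Spec.map_comp, hφβ, hγ]

end Groth.Agent.Lib.Helper7.Versal
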