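import Mathlib
import Groth.Agent.Lib.Helper7.FormallyEtaleLift

/-!
# Morphisms from spectra of local rings: factoring through subrings (helper7)
-/

set_option autoImplicit false

universe u

open CategoryTheory AlgebraicGeometry IsLocalRing

namespace Groth.Agent.Lib.Helper7.Versal

variable {X : Scheme.{u}}

theorem range_iso_comp {A B C : CommRingCat.{u}} (α : A ≅ B) (g : B ⟶ C) :
    Set.range (α.hom ≫ g).hom = Set.range g.hom := by
  rw [CommRingCat.hom_comp, RingHom.coe_comp, Set.range_comp,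
    Function.Surjective.range_eq (ConcreteCategory.bijective_of_isIso α.hom).2, Set.image_univ]

/-- Precomposing with `Spec` of a local homomorphism: the range of the induced local map. -/
theorem range_stalkClosedPointTo_SpecMap_comp {R R' : CommRingCat.{u}} [IsLocalRing R]
    [IsLocalRing R'] (θ : R' ⟶ R) [IsLocalHom θ.hom] (h : Spec R' ⟶ X) :
    Set.range (Scheme.stalkClosedPointTo (Spec.map θ ≫ h)).hom =
      θ.hom '' Set.range (Scheme.stalkClosedPointTo h).hom := by
  haveI : IsLocalHom (Scheme.stalkClosedPointTo h ≫ θ).hom := by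
    rw [CommRingCat.hom_comp]; infer_instance
  let f₂ : Σ x, { f : X.presheaf.stalk x ⟶ R // IsLocalHom f.hom } :=
    ⟨h (closedPoint R'), ⟨Scheme.stalkClosedPointTo h ≫ θ, inferInstance⟩⟩
  have h1 : (SpecToEquivOfLocalRing X R).symm f₂ = Spec.map θ ≫ h := by
    change Spec.map (Scheme.stalkClosedPointTo h ≫ θ) ≫ X.fromSpecStalk _ = _
    rw [Spec.map_comp, Category.assoc, Scheme.Spec_stalkClosedPointTo_fromSpecStalk]
  have h2 : SpecToEquivOfLocalRing X R (Spec.map θ ≫ h) = f₂ := by
    rw [← h1, Equiv.apply_symm_apply]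
  obtain ⟨hx, he⟩ := SpecToEquivOfLocalRing_eq_iff.mp h2
  change Scheme.stalkClosedPointTo (Spec.map θ ≫ h) = _ at he
  rw [he]
  refine (range_iso_comp _ _).trans ?_
  change Set.range (Scheme.stalkClosedPointTo h ≫ θ).hom = _
  rw [CommRingCat.hom_comp, RingHom.coe_comp, Set.range_comp]

/-- `Spec` of an injective local homomorphism of local rings is an epimorphism towards schemes. -/
theorem SpecMap_comp_cancel {R₀ R : CommRingCat.{u}} [IsLocalRing R₀] [IsLocalRing R]
    (ι : R₀ ⟶ R) [IsLocalHom ι.hom] (hι : Function.Injective ι.hom) (h₁ h₂ : Spec R₀ ⟶ X)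
    (h : Spec.map ι ≫ h₁ = Spec.map ι ≫ h₂) : h₁ = h₂ := by
  have hpt : h₁ (closedPoint R₀) = h₂ (closedPoint R₀) := by
    have e : Spec.map ι (closedPoint R) = closedPoint R₀ := Spec_closedPoint
    rw [← e, ← Scheme.Hom.comp_apply, ← Scheme.Hom.comp_apply, h]
  obtain ⟨_, ⟨V, hV, rfl⟩, hxV, -⟩ := X.isBasis_affineOpens.exists_subset_of_mem_open
    (Set.mem_univ (h₁ (closedPoint R₀))) isOpen_univ
  have hr₁ : Set.range h₁ ⊆ (V : Set X) := by
    rintro _ ⟨p, rfl⟩
    have := Scheme.preimage_eq_top_of_closedPoint_mem h₁ hxV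
    have hp : p ∈ h₁ ⁻¹ᵁ V := by rw [this]; trivial
    exact hp
  have hr₂ : Set.range h₂ ⊆ (V : Set X) := by
    rintro _ ⟨p, rfl⟩
    have hxV' : h₂ (closedPoint R₀) ∈ V := by rw [← hpt]; exact hxV
    have := Scheme.preimage_eq_top_of_closedPoint_mem h₂ hxV'
    have hp : p ∈ h₂ ⁻¹ᵁ V := by rw [this]; trivial
    exact hp
  obtain ⟨γ₁, rfl⟩ := Groth.Agent.Lib.Helper7.exists_SpecMap_comp_fromSpec hV h₁ hr₁
  obtain ⟨γ₂, rfl⟩ := Groth.Agent.Lib.Helper7.exists_SpecMap_comp_fromSpec hV h₂ hr₂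
  rw [← Category.assoc, ← Category.assoc, cancel_mono, ← Spec.map_comp, ← Spec.map_comp] at h
  have h3 : γ₁ ≫ ι = γ₂ ≫ ι := Spec.map_injective h
  have h4 : γ₁ = γ₂ := by
    ext r
    apply hι
    exact congrArg (fun m => m.hom r) h3
  rw [h4]

/-- Factoring a morphism from the spectrum of a local ring through the spectrum of a subring. -/
theorem exists_SpecMap_comp_eq {R₀ R : CommRingCat.{u}} [IsLocalRing R]
    (ι : R₀ ⟶ R) (hι : Function.Injective ι.hom) (h : Spec R ⟶ X)
    (hr : Set.range (Scheme.stalkClosedPointTo h).hom ⊆ Set.range ι.hom) :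
    ∃ h₀ : Spec R₀ ⟶ X, Spec.map ι ≫ h₀ = h := by
  let e : R₀ ≃+* ι.hom.range := RingEquiv.ofLeftInverse (g := Function.invFun ι.hom)
    (Function.leftInverse_invFun hι)
  let φ₁ : X.presheaf.stalk (h (closedPoint R)) →+* ι.hom.range :=
    (Scheme.stalkClosedPointTo h).hom.codRestrict ι.hom.range (fun r => hr ⟨r, rfl⟩)
  let φ₀ : X.presheaf.stalk (h (closedPoint R)) ⟶ R₀ :=
    CommRingCat.ofHom (e.symm.toRingHom.comp φ₁)
  have hφ₀ : φ₀ ≫ ι = Scheme.stalkClosedPointTo h := by
    ext r
    change ι.hom (e.symm (φ₁ r)) = _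
    have : ι.hom (e.symm (φ₁ r)) = ((e (e.symm (φ₁ r)) : ι.hom.range) : R) := rfl
    rw [this, RingEquiv.apply_symm_apply]
    rfl
  refine ⟨Spec.map φ₀ ≫ X.fromSpecStalk _, ?_⟩
  rw [← Category.assoc, ← Spec.map_comp, hφ₀, Scheme.Spec_stalkClosedPointTo_fromSpecStalk]

/-- The canonical surjection from a local ring to the residue field of the closed point of its
spectrum. -/
noncomputable def toResidue (R : CommRingCat.{u}) [IsLocalRing R] :
    R ⟶ (Spec R).residueField (closedPoint R) :=
  (stalkClosedPointIso R).inv ≫ (Spec R).residue (closedPoint R)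

theorem toResidue_surjective (R : CommRingCat.{u}) [IsLocalRing R] :
    Function.Surjective (toResidue R).hom := by
  intro y
  obtain ⟨s, hs⟩ := IsLocalRing.residue_surjective (R := (Spec R).presheaf.stalk (closedPoint R)) y
  obtain ⟨r, hr⟩ := (ConcreteCategory.bijective_of_isIso (stalkClosedPointIso R).inv).2 s
  refine ⟨r, ?_⟩
  unfold toResidue
  rw [CommRingCat.comp_apply]
  change IsLocalRing.residue _ ((stalkClosedPointIso R).inv.hom r) = y
  have hr' : (stalkClosedPointIso R).inv.hom r = s := hr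
  rw [hr', hs]

theorem toResidue_eq_zero_iff (R : CommRingCat.{u}) [IsLocalRing R] (r : R) :
    (toResidue R).hom r = 0 ↔ ¬ IsUnit r := by
  unfold toResidue
  rw [CommRingCat.hom_comp, RingHom.comp_apply]
  change IsLocalRing.residue _ ((stalkClosedPointIso R).inv.hom r) = 0 ↔ _
  rw [IsLocalRing.residue_eq_zero_iff, IsLocalRing.mem_maximalIdeal, mem_nonunits_iff]
  have : IsUnit ((stalkClosedPointIso R).inv.hom r) ↔ IsUnit r := by
    constructor
    · intro hu
      have := hu.map (stalkClosedPointIso R).hom.hom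
      rwa [← CommRingCat.comp_apply, Iso.inv_hom_id] at this
    · intro hu
      exact hu.map _
  rw [this]

theorem stalkClosedPointTo_toResidue {R : CommRingCat.{u}} [IsLocalRing R] (h : Spec R ⟶ X) :
    Scheme.stalkClosedPointTo h ≫ toResidue R =
      X.residue (h (closedPoint R)) ≫ h.residueFieldMap (closedPoint R) := by
  unfold toResidue Scheme.stalkClosedPointTo
  rw [Category.assoc, Iso.hom_inv_id_assoc, Scheme.residue_residueFieldMap]

end Groth.Agent.Lib.Helper7.Versal
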