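import Groth.Agent.Lib.Helper7.Versal.SubringArtinian
import Groth.Agent.Lib.Helper7.Versal.SpecLocal

/-!
# Formal versality implies lifting for finite residue field extensions (helper7)
-/

set_option autoImplicit false

universe u

open CategoryTheory AlgebraicGeometry IsLocalRing

namespace Groth.Agent.Lib.Helper7.Versal

theorem finite_range_of_finite {K L : Type u} [Field K] [Field L] (f : K →+* L) (hf : f.Finite) :
    Module.Finite f.range L := by
  letI : Algebra K L := f.toAlgebra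
  haveI : Module.Finite K L := hf
  letI : Algebra K f.range := f.rangeRestrict.toAlgebra
  haveI : IsScalarTower K f.range L := by
    refine ⟨fun k x y => ?_⟩
    change (f.rangeRestrict k * x : f.range) • y = f k * (x • y)
    change ((f k * x : L)) * y = f k * ((x : L) * y)
    rw [mul_assoc]
  exact Module.Finite.of_restrictScalars_finite K f.range L

theorem lifting_of_finite_residue {S T : Scheme.{u}} (g : T ⟶ S) (t : T)
    (hT : ∀ (C C' : Type u) [CommRing C] [CommRing C'] [IsLocalRing C] [IsLocalRing C']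
        [IsArtinianRing C] [IsArtinianRing C'] (π : C' →+* C), Function.Surjective π →
        ∀ (a : Spec (CommRingCat.of C) ⟶ T) (b : Spec (CommRingCat.of C') ⟶ S),
          a (IsLocalRing.closedPoint C) = t →
          Function.Surjective (a.residueFieldMap (IsLocalRing.closedPoint C)).hom →
          Spec.map (CommRingCat.ofHom π) ≫ b = a ≫ g →
          ∃ c : Spec (CommRingCat.of C') ⟶ T, Spec.map (CommRingCat.ofHom π) ≫ c = a ∧ c ≫ g = b)
    (C C' : Type u) [CommRing C] [CommRing C'] [IsLocalRing C] [IsLocalRing C']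
    [IsArtinianRing C] [IsArtinianRing C'] (π : C' →+* C) (hπ : Function.Surjective π)
    (a : Spec (CommRingCat.of C) ⟶ T) (b : Spec (CommRingCat.of C') ⟶ S)
    (ha : a (IsLocalRing.closedPoint C) = t)
    (hfin : (a.residueFieldMap (IsLocalRing.closedPoint C)).hom.Finite)
    (hcomm : Spec.map (CommRingCat.ofHom π) ≫ b = a ≫ g) :
    ∃ c : Spec (CommRingCat.of C') ⟶ T, Spec.map (CommRingCat.ofHom π) ≫ c = a ∧ c ≫ g = b := by
  let ρ : C →+* (Spec (CommRingCat.of C)).residueField (closedPoint C) := (toResidue (CommRingCat.of C)).hom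
  have hρ : Function.Surjective ρ := toResidue_surjective (CommRingCat.of C)
  let k₀ : Subring ((Spec (CommRingCat.of C)).residueField (closedPoint C)) :=
    (a.residueFieldMap (closedPoint C)).hom.range
  have hk : ∀ x ∈ k₀, x⁻¹ ∈ k₀ := by
    rintro _ ⟨y, rfl⟩
    exact ⟨y⁻¹, map_inv₀ _ y⟩
  have hfin' : Module.Finite k₀ ((Spec (CommRingCat.of C)).residueField (closedPoint C)) :=
    finite_range_of_finite _ hfin
  let ρ' : C' →+* (Spec (CommRingCat.of C)).residueField (closedPoint C) := ρ.comp π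
  have hρ' : Function.Surjective ρ' := hρ.comp hπ
  -- the two subrings
  haveI hloc₀ : IsLocalRing (sub₀ ρ k₀) := isLocalRing_sub₀ hρ hk
  haveI hart₀ : IsArtinianRing (sub₀ ρ k₀) := isArtinianRing_sub₀ hρ hk hfin'
  haveI hloc₀' : IsLocalRing (sub₀ ρ' k₀) := isLocalRing_sub₀ hρ' hk
  haveI hart₀' : IsArtinianRing (sub₀ ρ' k₀) := isArtinianRing_sub₀ hρ' hk hfin'
  haveI hlh : IsLocalHom (sub₀ ρ k₀).subtype := isLocalHom_subtype hρ hk
  haveI hlh' : IsLocalHom (sub₀ ρ' k₀).subtype := isLocalHom_subtype hρ' hk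
  let π₀ : sub₀ ρ' k₀ →+* sub₀ ρ k₀ :=
    (π.comp (sub₀ ρ' k₀).subtype).codRestrict (sub₀ ρ k₀) (fun x => x.2)
  have hπ₀ : Function.Surjective π₀ := by
    rintro ⟨c, hc⟩
    obtain ⟨c', rfl⟩ := hπ c
    exact ⟨⟨c', hc⟩, rfl⟩
  let ι : CommRingCat.of (sub₀ ρ k₀) ⟶ (CommRingCat.of C) := CommRingCat.ofHom (sub₀ ρ k₀).subtype
  let ι' : CommRingCat.of (sub₀ ρ' k₀) ⟶ (CommRingCat.of C') := CommRingCat.ofHom (sub₀ ρ' k₀).subtype
  haveI : IsLocalHom ι.hom := hlh
  haveI : IsLocalHom ι'.hom := hlh'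
  have hιinj : Function.Injective ι.hom := Subtype.val_injective
  have hι'inj : Function.Injective ι'.hom := Subtype.val_injective
  have hsq : CommRingCat.ofHom π₀ ≫ ι = ι' ≫ CommRingCat.ofHom π := rfl
  have hrangeι : ∀ c : C, ρ c ∈ k₀ → c ∈ Set.range ι.hom := fun c hc => ⟨⟨c, hc⟩, rfl⟩
  -- `a` factors through the subring
  have hra : Set.range (Scheme.stalkClosedPointTo a).hom ⊆ Set.range ι.hom := by
    rintro _ ⟨r, rfl⟩
    apply hrangeι
    have h1 := congrArg (fun m => m.hom r) (stalkClosedPointTo_toResidue a)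
    change ρ ((Scheme.stalkClosedPointTo a).hom r) = _ at h1
    rw [h1]
    exact ⟨(T.residue _).hom r, rfl⟩
  haveI hπloc : IsLocalHom (CommRingCat.ofHom π).hom := IsLocalHom.of_surjective π hπ
  -- `b` factors through the subring
  have hrb : Set.range (Scheme.stalkClosedPointTo b).hom ⊆ Set.range ι'.hom := by
    rintro _ ⟨r, rfl⟩
    have h1 : π ((Scheme.stalkClosedPointTo b).hom r) ∈
        Set.range (Scheme.stalkClosedPointTo (Spec.map (CommRingCat.ofHom π) ≫ b)).hom := by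
      rw [range_stalkClosedPointTo_SpecMap_comp]
      exact ⟨_, ⟨r, rfl⟩, rfl⟩
    rw [hcomm, Scheme.stalkClosedPointTo_comp] at h1
    obtain ⟨r', hr'⟩ := h1
    have h2 : π ((Scheme.stalkClosedPointTo b).hom r) ∈ Set.range ι.hom :=
      hra ⟨_, hr'⟩
    obtain ⟨⟨c, hc⟩, hc'⟩ := h2
    have hc'' : c = π ((Scheme.stalkClosedPointTo b).hom r) := hc'
    refine ⟨⟨(Scheme.stalkClosedPointTo b).hom r, ?_⟩, rfl⟩
    change ρ (π _) ∈ k₀
    rw [← hc'']
    exact hc
  obtain ⟨a₀, ha₀⟩ := exists_SpecMap_comp_eq ι hιinj a hra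
  obtain ⟨b₀, hb₀⟩ := exists_SpecMap_comp_eq ι' hι'inj b hrb
  -- compatibility
  have hcompat : Spec.map (CommRingCat.ofHom π₀) ≫ b₀ = a₀ ≫ g := by
    apply SpecMap_comp_cancel ι hιinj
    rw [← Category.assoc, ← Spec.map_comp, hsq, Spec.map_comp, Category.assoc, hb₀, hcomm,
      ← Category.assoc, ha₀]
  have ha₀t : a₀ (closedPoint (sub₀ ρ k₀)) = t := by
    have e : Spec.map ι (closedPoint C) = closedPoint (sub₀ ρ k₀) := Spec_closedPoint
    rw [← e, ← Scheme.Hom.comp_apply, ha₀]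
    exact ha
  -- surjectivity on residue fields
  have hsurj : Function.Surjective (a₀.residueFieldMap (closedPoint (sub₀ ρ k₀))).hom := by
    intro y
    obtain ⟨c, rfl⟩ := toResidue_surjective (CommRingCat.of (sub₀ ρ k₀)) y
    obtain ⟨z, hz⟩ : ρ c.1 ∈ k₀ := c.2
    obtain ⟨r₁, rfl⟩ := IsLocalRing.residue_surjective
      (R := T.presheaf.stalk (a (closedPoint C))) z
    have h1 := congrArg (fun m => m.hom r₁) (stalkClosedPointTo_toResidue a)
    change ρ ((Scheme.stalkClosedPointTo a).hom r₁) =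
      (a.residueFieldMap (closedPoint C)).hom (IsLocalRing.residue _ r₁) at h1
    have h2 : (Scheme.stalkClosedPointTo a).hom r₁ ∈
        ι.hom '' Set.range (Scheme.stalkClosedPointTo a₀).hom := by
      rw [← range_stalkClosedPointTo_SpecMap_comp, ha₀]
      exact ⟨r₁, rfl⟩
    obtain ⟨_, ⟨r₂, rfl⟩, hr₂⟩ := h2
    set d : sub₀ ρ k₀ := (Scheme.stalkClosedPointTo a₀).hom r₂ with hd
    have h3 : ρ ((c - d : sub₀ ρ k₀) : C) = 0 := by
      have : ((c - d : sub₀ ρ k₀) : C) = c.1 - ι.hom d := rfl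
      rw [this, map_sub, hr₂, h1, hz, sub_self]
    have h4 : ¬ IsUnit (c - d) := by
      intro hu
      have hu' : IsUnit (((c - d : sub₀ ρ k₀)) : C) := hu.map (sub₀ ρ k₀).subtype
      exact (toResidue_eq_zero_iff (CommRingCat.of C) _).mp h3 hu'
    have h5 : (toResidue (CommRingCat.of (sub₀ ρ k₀))).hom (c - d) = 0 :=
      (toResidue_eq_zero_iff (CommRingCat.of (sub₀ ρ k₀)) _).mpr h4
    rw [map_sub, sub_eq_zero] at h5
    refine ⟨IsLocalRing.residue _ r₂, ?_⟩
    rw [h5]
    have h6 := congrArg (fun m => m.hom r₂) (stalkClosedPointTo_toResidue a₀)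
    exact h6.symm
  obtain ⟨c₀, hc₀a, hc₀b⟩ := hT (sub₀ ρ k₀) (sub₀ ρ' k₀) π₀ hπ₀ a₀ b₀ ha₀t hsurj hcompat
  refine ⟨Spec.map ι' ≫ c₀, ?_, ?_⟩
  · rw [← Category.assoc, ← Spec.map_comp, ← hsq, Spec.map_comp, Category.assoc, hc₀a, ha₀]
  · rw [Category.assoc, hc₀b, hb₀]

end Groth.Agent.Lib.Helper7.Versal
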