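import Mathlib

/-!
# The subring of a local Artinian ring lying over a subfield of the residue field (helper7)

Let `D` be a local Artinian ring, `ρ : D →+* κ` a surjection onto a field and `k₀ ⊆ κ` a subfield
over which `κ` is finite. Then `D₀ = ρ⁻¹(k₀)` is a local Artinian ring, and `D₀ ⊆ D` is a local
homomorphism.
-/

set_option autoImplicit false

namespace Groth.Agent.Lib.Helper7.Versal

universe u v

variable {D : Type u} [CommRing D] {κ : Type v} [Field κ] (ρ : D →+* κ) (k₀ : Subring κ)

/-- The subring `ρ⁻¹(k₀)`. -/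
abbrev sub₀ : Subring D := k₀.comap ρ

variable {ρ k₀}

theorem ker_le_sub₀ {x : D} (hx : ρ x = 0) : x ∈ sub₀ ρ k₀ := by
  change ρ x ∈ k₀
  rw [hx]; exact k₀.zero_mem

section Local

variable [IsLocalRing D] (hρ : Function.Surjective ρ) (hk : ∀ x ∈ k₀, x⁻¹ ∈ k₀)
include hρ hk

theorem isUnit_of_ne_zero (x : sub₀ ρ k₀) (hx : ρ x ≠ 0) : IsUnit x := by
  have hxu : IsUnit (x : D) := by
    by_contra hnu
    have hmem : (x : D) ∈ IsLocalRing.maximalIdeal D := hnu
    have hker : RingHom.ker ρ = IsLocalRing.maximalIdeal D := by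
      have : (RingHom.ker ρ).IsMaximal := RingHom.ker_isMaximal_of_surjective ρ hρ
      exact IsLocalRing.eq_maximalIdeal this
    rw [← hker] at hmem
    exact hx hmem
  obtain ⟨u, hu⟩ := hxu
  have hinv : (↑u⁻¹ : D) ∈ sub₀ ρ k₀ := by
    change ρ ↑u⁻¹ ∈ k₀
    have h1 : ρ ↑u⁻¹ = (ρ x)⁻¹ := by
      have h2 : ρ ↑u⁻¹ * ρ x = 1 := by
        rw [← hu, ← map_mul, Units.inv_mul, map_one]
      exact eq_inv_of_mul_eq_one_left h2
    rw [h1]
    exact hk _ x.2
  refine IsUnit.of_mul_eq_one ⟨↑u⁻¹, hinv⟩ ?_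
  apply Subtype.ext
  change (x : D) * ↑u⁻¹ = 1
  rw [← hu, Units.mul_inv]

theorem isLocalRing_sub₀ : IsLocalRing (sub₀ ρ k₀) := by
  haveI : Nontrivial (sub₀ ρ k₀) := inferInstance
  refine IsLocalRing.of_isUnit_or_isUnit_one_sub_self fun x => ?_
  by_cases hx : ρ x = 0
  · right
    refine isUnit_of_ne_zero hρ hk (1 - x) ?_
    change ρ ((1 : D) - x) ≠ 0
    rw [map_sub, map_one, hx, sub_zero]
    exact one_ne_zero
  · left
    exact isUnit_of_ne_zero hρ hk x hx

theorem isLocalHom_subtype : IsLocalHom (sub₀ ρ k₀).subtype := by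
  constructor
  intro x hx
  refine isUnit_of_ne_zero hρ hk x ?_
  intro h0
  have hxu : IsUnit ((sub₀ ρ k₀).subtype x) := hx
  have := hxu.map ρ
  change IsUnit (ρ x) at this
  rw [h0] at this
  exact not_isUnit_zero this

end Local

section Artinian

variable [IsLocalRing D] [IsArtinianRing D] (hρ : Function.Surjective ρ)
  (hk : ∀ x ∈ k₀, x⁻¹ ∈ k₀)
include hρ hk

/-- `κ`, as a module over `D₀` through `ρ`, is Artinian when it is finite over `k₀`. -/
theorem isArtinian_residue (hfin : Module.Finite k₀ κ) :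
    letI : Module (sub₀ ρ k₀) κ := Module.compHom κ (ρ.comp (sub₀ ρ k₀).subtype)
    IsArtinian (sub₀ ρ k₀) κ := by
  letI : Module (sub₀ ρ k₀) κ := Module.compHom κ (ρ.comp (sub₀ ρ k₀).subtype)
  letI : Field k₀ :=
    { (inferInstance : CommRing k₀) with
      inv := fun x => ⟨(x : κ)⁻¹, hk _ x.2⟩
      exists_pair_ne := ⟨0, 1, fun h => zero_ne_one (congrArg Subtype.val h)⟩
      mul_inv_cancel := fun x hx => by
        apply Subtype.ext
        change (x : κ) * (x : κ)⁻¹ = 1
        exact mul_inv_cancel₀ (fun h => hx (Subtype.ext h))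
      inv_zero := by
        apply Subtype.ext
        change ((0 : κ))⁻¹ = 0
        exact inv_zero
      nnqsmul := _
      nnqsmul_def := fun _ _ => rfl
      qsmul := _
      qsmul_def := fun _ _ => rfl }
  haveI : IsArtinian k₀ κ := inferInstance
  let φ : sub₀ ρ k₀ →+* k₀ := (ρ.comp (sub₀ ρ k₀).subtype).codRestrict k₀ (fun x => x.2)
  letI : Algebra (sub₀ ρ k₀) k₀ := φ.toAlgebra
  haveI : IsScalarTower (sub₀ ρ k₀) k₀ κ := by
    refine ⟨fun c k x => ?_⟩
    have h1 : c • k = φ c * k := Algebra.smul_def c k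
    have h2 : ∀ (y : κ), c • y = ρ c * y := fun y => rfl
    rw [h1, h2]
    change (ρ c * (k : κ)) * x = ρ c * ((k : κ) * x)
    rw [mul_assoc]
  refine isArtinian_of_surjective_algebraMap (R := k₀) (S := sub₀ ρ k₀) (M := κ) ?_
  intro k
  obtain ⟨d, hd⟩ := hρ k
  refine ⟨⟨d, ?_⟩, Subtype.ext hd⟩
  change ρ d ∈ k₀
  rw [hd]; exact k.2

/-- Every `D`-module of finite length is Artinian over `D₀`. -/
theorem isArtinian_of_isFiniteLength (hfin : Module.Finite k₀ κ) (M : Type u) [AddCommGroup M]
    [Module D M] (hM : IsFiniteLength D M) : IsArtinian (sub₀ ρ k₀) M := by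
  induction hM with
  | of_subsingleton => infer_instance
  | @of_simple_quotient M _ _ N hsimple hN ih =>
    haveI := ih
    -- the simple quotient
    have hQ : IsArtinian (sub₀ ρ k₀) (M ⧸ N) := by
      obtain ⟨I, hI, ⟨e⟩⟩ := isSimpleModule_iff_quot_maximal.mp hsimple
      have hIm : I = IsLocalRing.maximalIdeal D := IsLocalRing.eq_maximalIdeal hI
      have hker : RingHom.ker ρ = IsLocalRing.maximalIdeal D := by
        have : (RingHom.ker ρ).IsMaximal := RingHom.ker_isMaximal_of_surjective ρ hρ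
        exact IsLocalRing.eq_maximalIdeal this
      letI : Module (sub₀ ρ k₀) κ := Module.compHom κ (ρ.comp (sub₀ ρ k₀).subtype)
      haveI : IsArtinian (sub₀ ρ k₀) κ := isArtinian_residue hρ hk hfin
      let f₀ : D ⧸ I →+* κ := Ideal.Quotient.lift I ρ (fun a ha => by
        rw [hIm, ← hker] at ha; exact ha)
      let f : (M ⧸ N) →ₗ[sub₀ ρ k₀] κ :=
        { toFun := fun x => f₀ (e x)
          map_add' := fun x y => by rw [map_add, map_add]
          map_smul' := fun c x => by
            change f₀ (e ((c : D) • x)) = ρ c * f₀ (e x)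
            rw [map_smul]
            have : (c : D) • e x = Ideal.Quotient.mk I (c : D) * e x := by
              rw [Algebra.smul_def]; rfl
            rw [this, map_mul]
            rfl }
      have hf : Function.Injective f := by
        intro x y hxy
        apply e.injective
        have h1 : f₀ (e x) = f₀ (e y) := hxy
        have hinj : Function.Injective f₀ := by
          rw [injective_iff_map_eq_zero]
          intro a ha
          obtain ⟨a', rfl⟩ := Ideal.Quotient.mk_surjective a
          have : ρ a' = 0 := ha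
          rw [Ideal.Quotient.eq_zero_iff_mem, hIm, ← hker]
          exact this
        exact hinj h1
      exact isArtinian_of_injective f hf
    exact isArtinian_of_range_eq_ker (N.subtype.restrictScalars (sub₀ ρ k₀))
      (N.mkQ.restrictScalars (sub₀ ρ k₀)) (by
        ext x
        simp only [LinearMap.mem_range, LinearMap.mem_ker, LinearMap.coe_restrictScalars,
          Submodule.coe_subtype, Submodule.mkQ_apply, Submodule.Quotient.mk_eq_zero]
        exact ⟨fun ⟨y, hy⟩ => hy ▸ y.2, fun hx => ⟨⟨x, hx⟩, rfl⟩⟩)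

theorem isArtinianRing_sub₀ (hfin : Module.Finite k₀ κ) : IsArtinianRing (sub₀ ρ k₀) := by
  have h1 : IsFiniteLength D D :=
    isFiniteLength_iff_isNoetherian_isArtinian.mpr ⟨inferInstance, inferInstance⟩
  haveI : IsArtinian (sub₀ ρ k₀) D := isArtinian_of_isFiniteLength hρ hk hfin D h1
  let g : sub₀ ρ k₀ →ₗ[sub₀ ρ k₀] D :=
    { toFun := fun x => (x : D)
      map_add' := fun _ _ => rfl
      map_smul' := fun _ _ => rfl }
  exact isArtinian_of_injective g Subtype.val_injective

end Artinian

end Groth.Agent.Lib.Helper7.Versal
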